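import Cfsg.Agent.H682.EP.AdSL

/-!
# S3499, own characteristic: the adjoint module of `SL(3, F)`, the contradiction (helper682)
-/

set_option autoImplicit false
set_option linter.unusedSectionVars false
set_option linter.unusedVariables false

namespace Cfsg.Agent.H682.EP

open Matrix Subgroup QuadraticMap Cfsg.Agent.H911.Ad Cfsg.Agent.H284 Cfsg.Agent.H419.EP
open scoped MatrixGroups

variable {F : Type*} [Field F]

theorem h01 : (0 : Fin 3) ≠ 1 := by decide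
theorem h02 : (0 : Fin 3) ≠ 2 := by decide
theorem h12 : (1 : Fin 3) ≠ 2 := by decide

/-- commuting modulo scalars -/
theorem comm_mk {g : GL (Fin 3) F} (h3 : (3 : F) ≠ 0) {X : Mo.S F} (h : Mo.mk (cjS g X) = Mo.mk X) :
    g.1 * X.1 = X.1 * g.1 := by
  rw [← sub_eq_zero, ← map_sub, Mo.mk_eq_zero] at h
  obtain ⟨a, ha⟩ := h
  have h1 : a • (1 : Matrix (Fin 3) (Fin 3) F) = g.1 * X.1 * g⁻¹.1 - X.1 := ha
  have h2 := congrArg Matrix.trace h1
  rw [Matrix.trace_smul, Matrix.trace_one, Matrix.trace_sub, Matrix.trace_mul_comm,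
    ← Matrix.mul_assoc, Units.inv_mul, Matrix.one_mul, sub_self, Fintype.card_fin, smul_eq_mul] at h2
  have ha0 : a = 0 := (mul_eq_zero.1 h2).resolve_right (by exact_mod_cast h3)
  rw [ha0, zero_smul] at h1
  have h5 : g.1 * X.1 * g⁻¹.1 = X.1 := (sub_eq_zero.1 h1.symm)
  calc g.1 * X.1 = g.1 * X.1 * g⁻¹.1 * g.1 := by
        rw [Matrix.mul_assoc (g.1 * X.1), Units.inv_mul, Matrix.mul_one]
    _ = X.1 * g.1 := by rw [h5]

theorem e_ne {i j : Fin 3} (hij : i ≠ j) {ι : Type} [Fintype ι] [DecidableEq ι] (θ : (ι → F) ≃ₗ[F] Mo.M F) :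
    ev θ (Mo.e F hij) ≠ 0 := by
  intro h
  obtain ⟨a, ha⟩ := (ev_eq_zero θ).1 h
  have h1 := congrFun (congrFun ha i) j
  rw [e_val, Matrix.smul_apply, Matrix.one_apply_ne hij, smul_zero, Matrix.single_apply_same] at h1
  exact zero_ne_one h1

/-- a scalar acting element of `GL(3)` is scalar -/
theorem scal_of {g : GL (Fin 3) F} (h3 : (3 : F) ≠ 0) {l : F} (h : ∀ X : Mo.S F, Mo.mk (cjS g X) = l • Mo.mk X) :
    ∃ a : F, a ≠ 0 ∧ g.1 = a • (1 : Matrix (Fin 3) (Fin 3) F) := by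
  obtain ⟨a1, a2, a3⟩ := comm_e h3 h01 (h (Mo.e F h01))
  obtain ⟨b1, b2, b3⟩ := comm_e h3 h01.symm (h (Mo.e F h01.symm))
  obtain ⟨c1, c2, c3⟩ := comm_e h3 h02 (h (Mo.e F h02))
  obtain ⟨d1, d2, d3⟩ := comm_e h3 h12 (h (Mo.e F h12))
  have hne : ∀ i, g.1 i i ≠ 0 := by
    intro i hi
    have hrow : ∀ j, g.1 i j = 0 := by
      intro j
      by_cases hj : j = i
      · rw [hj, hi]
      · fin_cases i
        · exact b2 j hj
        · exact a2 j hj
        · exact c2 j hj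
    have h4 : (g.1 * g⁻¹.1) i i = 1 := by rw [Units.mul_inv, Matrix.one_apply_eq]
    rw [Matrix.mul_apply, Fin.sum_univ_three, hrow, hrow, hrow, zero_mul, zero_mul, zero_mul, add_zero, add_zero] at h4
    exact zero_ne_one h4
  have e1 : l * g.1 1 1 = l * g.1 2 2 := by rw [← a3, c3]
  have hl : l ≠ 0 := by
    intro h0
    rw [h0, zero_mul] at a3
    exact hne 0 a3
  have e2 : g.1 1 1 = g.1 2 2 := mul_left_cancel₀ hl e1
  have e3 : g.1 0 0 = g.1 1 1 := by rw [c3, d3]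
  refine ⟨g.1 0 0, hne 0, ?_⟩
  ext i j
  rw [Matrix.smul_apply, smul_eq_mul]
  by_cases hij : i = j
  · subst hij
    rw [Matrix.one_apply_eq, mul_one]
    fin_cases i
    · rfl
    · exact e3.symm
    · exact (e3.trans e2).symm
  · rw [Matrix.one_apply_ne hij, mul_zero]
    fin_cases i
    · exact b2 j (Ne.symm hij)
    · exact a2 j (Ne.symm hij)
    · exact c2 j (Ne.symm hij)

/-- the kernel modulo scalars -/
theorem ker_sl {ι : Type} [Fintype ι] [DecidableEq ι] (θ : (ι → F) ≃ₗ[F] Mo.M F) (h3 : (3 : F) ≠ 0)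
    {z : SpecialLinearGroup (Fin 3) F} (hz : sl θ z ∈ Cfsg.Geo.scalars ι F) : (∀ g, g * z = z * g) ∧ z ^ 3 = 1 := by
  obtain ⟨l, hl⟩ := (Cfsg.Geo.mem_scalars_iff _).1 hz
  have h1 : ∀ X : Mo.S F, Mo.mk (cjS (SpecialLinearGroup.toGL z) X) = (l : F) • Mo.mk X := by
    intro X
    apply θ.symm.injective
    rw [map_smul, ← ev_apply, ← ev_apply, ← cg_ev, ← sl_apply, hl, Matrix.smul_mulVec, Matrix.one_mulVec]
  obtain ⟨a, ha, e⟩ := scal_of h3 h1
  have e' : z.1 = a • (1 : Matrix (Fin 3) (Fin 3) F) := e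
  have hdet : a ^ 3 = 1 := by
    have := z.2
    rw [e', Matrix.det_smul, Matrix.det_one, mul_one, Fintype.card_fin] at this
    exact this
  constructor
  · intro g
    apply Subtype.ext
    change g.1 * z.1 = z.1 * g.1
    rw [e', Matrix.mul_smul, Matrix.smul_mul, Matrix.mul_one, Matrix.one_mul]
  · apply Subtype.ext
    refine (Matrix.SpecialLinearGroup.coe_pow z 3).trans ?_
    rw [e', smul_pow, one_pow, hdet, one_smul]
    rfl

/-! ### the vectors -/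

theorem fin3 (i : Fin 3) : i = 0 ∨ i = 1 ∨ i = 2 := by fin_cases i <;> simp

theorem e2_e {i j : Fin 3} (hij : i ≠ j) : Mo.e2 (Mo.e F hij).1 = 0 := by
  rw [Mo.e2_eq, e_val]
  rcases fin3 i with rfl | rfl | rfl <;> rcases fin3 j with rfl | rfl | rfl <;>
    first | exact absurd rfl hij | simp

theorem cjS_mkU (a b c : F) (X : Mo.S F) : (cjS (SpecialLinearGroup.toGL (mkU a b c)) X).1 =
    (mkU a b c).1 * X.1 * (mkU (-a) (a * c - b) (-c)).1 := by
  rw [cjS_val, ← map_inv, mkU_inv]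
  rfl

theorem cjS_mkU_02 (a b c : F) : cjS (SpecialLinearGroup.toGL (mkU a b c)) (Mo.e F h02) = Mo.e F h02 := by
  apply Subtype.ext
  rw [cjS_mkU, e_val]
  ext i j
  rw [Matrix.mul_apply, Fin.sum_univ_three]
  simp only [Matrix.mul_apply, Fin.sum_univ_three, mkU_val, Matrix.single_apply]
  rcases fin3 i with rfl | rfl | rfl <;> rcases fin3 j with rfl | rfl | rfl <;> simp

theorem cjS_mkU_01 (a b c : F) : cjS (SpecialLinearGroup.toGL (mkU a b c)) (Mo.e F h01) =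
    Mo.e F h01 + (-c) • Mo.e F h02 := by
  apply Subtype.ext
  change _ = Matrix.single 0 1 1 + (-c) • Matrix.single 0 2 1
  rw [cjS_mkU, e_val]
  ext i j
  rw [Matrix.mul_apply, Fin.sum_univ_three]
  simp only [Matrix.mul_apply, Fin.sum_univ_three, mkU_val, Matrix.single_apply, Matrix.add_apply, Matrix.smul_apply]
  rcases fin3 i with rfl | rfl | rfl <;> rcases fin3 j with rfl | rfl | rfl <;> simp

/-- the diagonal matrix `(1, μ, 1)` -/
def dgl (μ : Fˣ) : GL (Fin 3) F := ⟨!![1, 0, 0; 0, (μ : F), 0; 0, 0, 1], !![1, 0, 0; 0, ((μ⁻¹ : Fˣ) : F), 0; 0, 0, 1], by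
  ext i j
  rw [Matrix.mul_apply, Fin.sum_univ_three]
  rcases fin3 i with rfl | rfl | rfl <;> rcases fin3 j with rfl | rfl | rfl <;> simp, by
  ext i j
  rw [Matrix.mul_apply, Fin.sum_univ_three]
  rcases fin3 i with rfl | rfl | rfl <;> rcases fin3 j with rfl | rfl | rfl <;> simp⟩

theorem dgl_val (μ : Fˣ) (i j : Fin 3) : (dgl μ).1 i j = !![1, 0, 0; 0, (μ : F), 0; 0, 0, 1] i j := rfl

theorem dgl_inv_val (μ : Fˣ) (i j : Fin 3) : (dgl μ)⁻¹.1 i j = !![1, 0, 0; 0, ((μ⁻¹ : Fˣ) : F), 0; 0, 0, 1] i j := rfl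

theorem dgl_mul (μ ν : Fˣ) : dgl μ * dgl ν = dgl (μ * ν) := by
  apply Units.ext
  rw [Units.val_mul]
  ext i j
  rw [Matrix.mul_apply, Fin.sum_univ_three]
  simp only [dgl_val]
  rcases fin3 i with rfl | rfl | rfl <;> rcases fin3 j with rfl | rfl | rfl <;> simp

theorem dgl_symm (μ : Fˣ) : (dgl μ).1ᵀ = (dgl μ).1 := by
  ext i j
  rw [Matrix.transpose_apply, dgl_val, dgl_val]
  rcases fin3 i with rfl | rfl | rfl <;> rcases fin3 j with rfl | rfl | rfl <;> simp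

theorem cjS_dgl_02 (μ : Fˣ) : cjS (dgl μ) (Mo.e F h02) = Mo.e F h02 := by
  apply Subtype.ext
  rw [cjS_val, e_val]
  ext i j
  rw [Matrix.mul_apply, Fin.sum_univ_three]
  simp only [Matrix.mul_apply, Fin.sum_univ_three, dgl_val, dgl_inv_val, Matrix.single_apply]
  rcases fin3 i with rfl | rfl | rfl <;> rcases fin3 j with rfl | rfl | rfl <;> simp

theorem cjS_dgl_01 (μ : Fˣ) : cjS (dgl μ) (Mo.e F h01) = ((μ⁻¹ : Fˣ) : F) • Mo.e F h01 := by
  apply Subtype.ext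
  change _ = ((μ⁻¹ : Fˣ) : F) • Matrix.single 0 1 (1 : F)
  rw [cjS_val, e_val]
  ext i j
  rw [Matrix.mul_apply, Fin.sum_univ_three]
  simp only [Matrix.mul_apply, Fin.sum_univ_three, dgl_val, dgl_inv_val, Matrix.single_apply, Matrix.smul_apply]
  rcases fin3 i with rfl | rfl | rfl <;> rcases fin3 j with rfl | rfl | rfl <;> simp

theorem dgl_mkU (μ : Fˣ) (a b c : F) : dgl μ * SpecialLinearGroup.toGL (mkU a b c) * (dgl μ)⁻¹ =
    SpecialLinearGroup.toGL (mkU (a * ((μ⁻¹ : Fˣ) : F)) b (μ * c)) := by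
  apply Units.ext
  rw [Units.val_mul, Units.val_mul]
  ext i j
  change _ = (mkU (a * ((μ⁻¹ : Fˣ) : F)) b (μ * c)).1 i j
  rw [Matrix.mul_apply, Fin.sum_univ_three]
  have e1 : ∀ k l, (SpecialLinearGroup.toGL (mkU a b c)).1 k l = (mkU a b c).1 k l := fun _ _ => rfl
  simp only [Matrix.mul_apply, Fin.sum_univ_three, dgl_val, dgl_inv_val, e1, mkU_val]
  rcases fin3 i with rfl | rfl | rfl <;> rcases fin3 j with rfl | rfl | rfl <;> simp

/-- conjugation of `SL(3)` by a matrix -/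
def cjL (d : GL (Fin 3) F) (g : SpecialLinearGroup (Fin 3) F) : SpecialLinearGroup (Fin 3) F :=
  ⟨d.1 * g.1 * d⁻¹.1, by
    rw [Matrix.det_mul, Matrix.det_mul, g.2, mul_one, ← Matrix.det_mul, Units.mul_inv, Matrix.det_one]⟩

theorem cjL_toGL (d : GL (Fin 3) F) (g : SpecialLinearGroup (Fin 3) F) :
    SpecialLinearGroup.toGL (cjL d g) = d * SpecialLinearGroup.toGL g * d⁻¹ := Units.ext rfl

/-! ### the core of `U` -/

theorem mkU_mem_R1 (a b : F) : mkU a b 0 ∈ R1 F := ⟨a, b, rfl⟩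
theorem mkU_mem_R2 (b c : F) : mkU 0 b c ∈ R2 F := ⟨b, c, rfl⟩

theorem core_ok {ι : Type} [Fintype ι] [DecidableEq ι] (θ : (ι → F) ≃ₗ[F] Mo.M F) (μ : Fˣ)
    {D : Subgroup (SpecialLinearGroup (Fin 3) F)} (hD : Uh F ≤ D) (hne : D ≠ ⊤) : coreIn D (Uh F) ≠ ⊥ ∧
      ∀ k ∈ coreIn D (Uh F), ∃ k' ∈ coreIn D (Uh F), cg θ (dgl μ) * sl θ k * (cg θ (dgl μ))⁻¹ = sl θ k' := by
  have h1 : ∀ a b c : F, cg θ (dgl μ) * sl θ (mkU a b c) * (cg θ (dgl μ))⁻¹ =
      sl θ (mkU (a * ((μ⁻¹ : Fˣ) : F)) b (μ * c)) := by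
    intro a b c
    rw [sl_apply, sl_apply, ← dgl_mkU, map_mul, map_mul, map_inv]
  have hne1 : mkU (0 : F) 1 0 ≠ 1 := by
    intro e
    rw [← mkU_zero] at e
    exact one_ne_zero (mkU_inj e).2.1
  rcases core_SL hD hne with e | e | e
  · rw [e]
    refine ⟨fun h => hne1 ?_, ?_⟩
    · have : mkU (0 : F) 1 0 ∈ R1 F := mkU_mem_R1 _ _
      rw [h, mem_bot] at this
      exact this
    · rintro _ ⟨a, b, rfl⟩
      exact ⟨_, by rw [mul_zero]; exact mkU_mem_R1 _ _, h1 a b 0⟩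
  · rw [e]
    refine ⟨fun h => hne1 ?_, ?_⟩
    · have : mkU (0 : F) 1 0 ∈ R2 F := mkU_mem_R2 _ _
      rw [h, mem_bot] at this
      exact this
    · rintro _ ⟨b, c, rfl⟩
      exact ⟨_, by rw [zero_mul]; exact mkU_mem_R2 _ _, h1 0 b c⟩
  · rw [e]
    refine ⟨fun h => hne1 ?_, ?_⟩
    · have : mkU (0 : F) 1 0 ∈ Uh F := mkU_mem _ _ _
      rw [h, mem_bot] at this
      exact this
    · rintro _ ⟨a, b, c, rfl⟩
      exact ⟨_, mkU_mem _ _ _, h1 a b c⟩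

/-! ### the contradiction -/

section main

variable {Q : Type*} [Group Q] {A : Subgroup Q} {Γ : Subgroup (MulAut Q)} {ι : Type} [Fintype ι] [DecidableEq ι]
  {Qf : (ι → F) → F} {P : Subgroup (GL ι F)} (hQ : Cfsg.Geo.IsNondegenerateQuadraticForm Qf)
  {θ : (ι → F) ≃ₗ[F] Mo.M F} {a : F} (hQf : ∀ v, Qf v = a * qf θ v)

include hQf in
theorem Q_e {i j : Fin 3} (hij : i ≠ j) : Qf (ev θ (Mo.e F hij)) = 0 := by
  rw [Q_ev θ hQf, e2_e, mul_zero]

/-- the swap -/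
def wS (F : Type*) [Field F] : SpecialLinearGroup (Fin 3) F := ⟨!![0, -1, 0; 1, 0, 0; 0, 0, 1], by
  rw [Matrix.det_fin_three]
  simp⟩

theorem wS_val (i j : Fin 3) : (wS F).1 i j = !![0, -1, 0; 1, 0, 0; 0, 0, 1] i j := rfl

/-- its inverse -/
def wI (F : Type*) [Field F] : SpecialLinearGroup (Fin 3) F := ⟨!![0, 1, 0; -1, 0, 0; 0, 0, 1], by
  rw [Matrix.det_fin_three]
  simp⟩

theorem wI_val (i j : Fin 3) : (wI F).1 i j = !![0, 1, 0; -1, 0, 0; 0, 0, 1] i j := rfl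

theorem wS_inv : (wS F)⁻¹ = wI F := by
  rw [inv_eq_iff_mul_eq_one]
  apply ext3
  intro i j
  rw [mul_ent, one_ent]
  simp only [wS_val, wI_val]
  rcases fin3 i with rfl | rfl | rfl <;> rcases fin3 j with rfl | rfl | rfl <;> simp

theorem wS_inv_val (i j : Fin 3) : (wS F)⁻¹.1 i j = !![0, 1, 0; -1, 0, 0; 0, 0, 1] i j := by
  rw [wS_inv, wI_val]

theorem cjS_wS_02 : cjS (SpecialLinearGroup.toGL (wS F)) (Mo.e F h02) = Mo.e F h12 := by
  apply Subtype.ext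
  rw [cjS_val, ← map_inv, e_val, e_val]
  change (wS F).1 * _ * (wS F)⁻¹.1 = _
  ext i j
  rw [Matrix.mul_apply, Fin.sum_univ_three]
  simp only [Matrix.mul_apply, Fin.sum_univ_three, wS_val, wS_inv_val, Matrix.single_apply]
  rcases fin3 i with rfl | rfl | rfl <;> rcases fin3 j with rfl | rfl | rfl <;> simp

theorem cjS_wS_01 : cjS (SpecialLinearGroup.toGL (wS F)) (Mo.e F h01) = -Mo.e F h01.symm := by
  apply Subtype.ext
  change _ = -Matrix.single 1 0 (1 : F)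
  rw [cjS_val, ← map_inv, e_val]
  change (wS F).1 * _ * (wS F)⁻¹.1 = _
  ext i j
  rw [Matrix.mul_apply, Fin.sum_univ_three]
  simp only [Matrix.mul_apply, Fin.sum_univ_three, wS_val, wS_inv_val, Matrix.single_apply, Matrix.neg_apply]
  rcases fin3 i with rfl | rfl | rfl <;> rcases fin3 j with rfl | rfl | rfl <;> simp

/-- a Siegel element fixes the orthogonal vectors -/
theorem sg_fix {u w : ι → F} (hu : Qf u = 0) (hw : polar Qf u w = 0) {x : ι → F} (h1 : polar Qf u x = 0)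
    (h2 : polar Qf w x = 0) : (sg hQ u w hu hw : Matrix ι ι F) *ᵥ x = x := by
  rw [sg_apply, h1, h2]
  simp

theorem inv_fix {g : GL ι F} {x : ι → F} (h : (g : Matrix ι ι F) *ᵥ x = x) :
    ((g⁻¹ : GL ι F) : Matrix ι ι F) *ᵥ x = x := by
  conv_lhs => rw [← h]
  rw [Matrix.mulVec_mulVec, Units.inv_mul, Matrix.one_mulVec]

theorem tr_e {i j : Fin 3} (hij : i ≠ j) (X : Matrix (Fin 3) (Fin 3) F) : ((Mo.e F hij).1 * X).trace = X j i := by
  rw [e_val, Matrix.trace_fin_three]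
  simp only [Matrix.mul_apply, Fin.sum_univ_three, Matrix.single_apply]
  rcases fin3 i with rfl | rfl | rfl <;> rcases fin3 j with rfl | rfl | rfl <;>
    first | exact absurd rfl hij | simp

include hQf in
/-- **No Siegel element in the normaliser.** -/
theorem no_tau [Finite Q] (m : Model Q (Cfsg.Geo.omegaGL Qf)) (ha : a ≠ 0) (h3 : (3 : F) ≠ 0) (hr : (sl θ).range = P)
    (hP : Cfsg.Geo.IsResidualCore (m.hat A) P) {κ : F} (hκ : κ ≠ 0)
    (hw : polar Qf (ev θ (Mo.e F h02)) (κ • ev θ (Mo.e F h01)) = 0)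
    (hτ : sg hQ (ev θ (Mo.e F h02)) (κ • ev θ (Mo.e F h01)) (Q_e hQf h02) hw ∈ m.hat A) : False := by
  set z := ev θ (Mo.e F h02) with hz
  set v := ev θ (Mo.e F h01) with hv
  set τ := sg hQ z (κ • v) (Q_e hQf h02) hw with hτd
  set g := sl θ (wS F) with hg
  have hgP : g ∈ P := by rw [← hr]; exact ⟨_, rfl⟩
  have hgi : ∀ x, Qf ((g : Matrix ι ι F) *ᵥ x) = Qf x := fun x => cg_iso θ hQf _ x
  have hgz : (g : Matrix ι ι F) *ᵥ z = ev θ (Mo.e F h12) := by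
    rw [hz, hg, sl_apply, cg_ev, cjS_wS_02]
  have hgv : (g : Matrix ι ι F) *ᵥ (κ • v) = (-κ) • ev θ (Mo.e F h01.symm) := by
    rw [Matrix.mulVec_smul, hv, hg, sl_apply, cg_ev, cjS_wS_01, map_neg, smul_neg, neg_smul]
  have hgu : Qf ((g : Matrix ι ι F) *ᵥ z) = 0 := by rw [hgi]; exact Q_e hQf h02
  have hgw : polar Qf ((g : Matrix ι ι F) *ᵥ z) ((g : Matrix ι ι F) *ᵥ (κ • v)) = 0 := by rw [polar_fix hgi, hw]
  have hconj : g * τ * g⁻¹ = sg hQ _ _ hgu hgw := sg_conj hQ hgi _ hw hgu hgw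
  have hyP : τ * g * τ⁻¹ * g⁻¹ ∈ P := P.mul_mem (hP.normal _ hτ _ hgP) (P.inv_mem hgP)
  rw [← hr] at hyP
  obtain ⟨s, hs⟩ := hyP
  have hy : τ * g * τ⁻¹ * g⁻¹ = τ * (g * τ * g⁻¹)⁻¹ := by group
  have p1 : ∀ {i j : Fin 3} (hij : i ≠ j) (X : Mo.S F), polar Qf (ev θ (Mo.e F hij)) (ev θ X) = -a * X.1 j i := by
    intro i j hij X
    rw [polar_ev θ hQf, tr_e]
  have f1 : ∀ X : Mo.S F, X.1 2 0 = 0 → X.1 1 0 = 0 → (τ : Matrix ι ι F) *ᵥ ev θ X = ev θ X := by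
    intro X h20 h10
    apply sg_fix hQ (Q_e hQf h02) hw
    · rw [p1, h20, mul_zero]
    · rw [polar_smul_l hQ, p1, h10, mul_zero, mul_zero]
  have f2 : ∀ X : Mo.S F, X.1 2 1 = 0 → X.1 0 1 = 0 → ((g * τ * g⁻¹ : GL ι F) : Matrix ι ι F) *ᵥ ev θ X = ev θ X := by
    intro X h21 h01'
    rw [hconj]
    apply sg_fix hQ hgu hgw
    · rw [hgz, p1, h21, mul_zero]
    · rw [hgv, polar_smul_l hQ, p1, h01', mul_zero, mul_zero]
  have hcomm : ∀ X : Mo.S F, X.1 2 0 = 0 → X.1 1 0 = 0 → X.1 2 1 = 0 → X.1 0 1 = 0 → s.1 * X.1 = X.1 * s.1 := by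
    intro X h20 h10 h21 h01'
    have e1 : (sl θ s : Matrix ι ι F) *ᵥ ev θ X = ev θ X := by
      rw [hs, hy, Units.val_mul, ← Matrix.mulVec_mulVec, inv_fix (f2 X h21 h01'), f1 X h20 h10]
    rw [sl_apply, cg_ev] at e1
    exact comm_mk h3 (θ.symm.injective e1)
  have c1 := hcomm (Mo.e F h02) (by simp [e_val]) (by simp [e_val]) (by simp [e_val]) (by simp [e_val])
  have c2 := hcomm (Mo.e F h12) (by simp [e_val]) (by simp [e_val]) (by simp [e_val]) (by simp [e_val])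
  have hd : ∀ i j, (Mo.d F 0 1).1 i j = (Matrix.single 1 1 1 - Matrix.single 0 0 (1 : F) : Matrix (Fin 3) (Fin 3) F) i j :=
    fun _ _ => rfl
  have c3 := hcomm (Mo.d F 0 1) (by rw [hd]; simp) (by rw [hd]; simp) (by rw [hd]; simp) (by rw [hd]; simp)
  have q1 : ∀ i j : Fin 3, (s.1 * (Mo.e F h02).1) i j = ((Mo.e F h02).1 * s.1) i j := fun i j => by rw [c1]
  have q2 : ∀ i j : Fin 3, (s.1 * (Mo.e F h12).1) i j = ((Mo.e F h12).1 * s.1) i j := fun i j => by rw [c2]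
  have q3 : ∀ i j : Fin 3, (s.1 * (Mo.d F 0 1).1) i j = ((Mo.d F 0 1).1 * s.1) i j := fun i j => by rw [c3]
  simp only [Matrix.mul_apply, Fin.sum_univ_three, e_val, hd, Matrix.sub_apply, Matrix.single_apply] at q1 q2 q3
  have s10 := q1 1 2
  have s20 := q1 2 2
  have s00 := q1 0 2
  have s21 := q2 2 2
  have s01 := q2 0 2
  have s11 := q2 1 2
  have s02 := q3 0 2
  have s12 := q3 1 2
  simp at s10 s20 s00 s21 s01 s11 s02 s12
  have s12' := s12.symm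
  have hsc : s.1 = s.1 0 0 • (1 : Matrix (Fin 3) (Fin 3) F) := by
    ext i j
    rw [Matrix.smul_apply, smul_eq_mul]
    rcases fin3 i with rfl | rfl | rfl <;> rcases fin3 j with rfl | rfl | rfl <;> simp [s10, s20, s00, s21, s01, s11, s02, s12']
  have hs1 : sl θ s = 1 := by
    apply gl_ext
    intro x
    obtain ⟨X, rfl⟩ := ev_surj θ x
    rw [sl_apply, cg_ev, Units.val_one, Matrix.one_mulVec]
    congr 1
    apply Subtype.ext
    have hs2 : (SpecialLinearGroup.toGL s).1 = s.1 0 0 • (1 : Matrix (Fin 3) (Fin 3) F) := hsc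
    rw [cjS_val, hs2, Matrix.smul_mul, Matrix.one_mul]
    have h5 : (SpecialLinearGroup.toGL s).1 * (SpecialLinearGroup.toGL s)⁻¹.1 = 1 := Units.mul_inv _
    rw [hs2, Matrix.smul_mul, Matrix.one_mul] at h5
    rw [Matrix.smul_mul, ← Matrix.mul_smul, h5, Matrix.mul_one]
  rw [hs1, hy] at hs
  have hττ : τ = g * τ * g⁻¹ := (mul_inv_eq_one.1 hs.symm)
  have h6 := f2 (Mo.e F h02.symm) (by simp [e_val]) (by simp [e_val])
  rw [← hττ, hτd, sg_apply, p1, polar_smul_l hQ, p1, hQ.smul, Q_e hQf h01] at h6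
  have e1 : (Mo.e F h02.symm).1 2 0 = 1 := by simp [e_val]
  have e2 : (Mo.e F h02.symm).1 1 0 = 0 := by simp [e_val]
  rw [e1, e2] at h6
  have h7 : (-a * κ) • v = 0 := by
    have h8 : ev θ (Mo.e F h02.symm) + (-a * 1) • κ • v - (κ * (-a * 0)) • z - (κ ^ 2 * 0 * (-a * 1)) • z =
        ev θ (Mo.e F h02.symm) + (-a * κ) • v := by module
    rw [h8] at h6
    exact left_eq_add.1 h6.symm
  rcases smul_eq_zero.1 h7 with h8 | h8
  · exact mul_ne_zero (neg_ne_zero.2 ha) hκ h8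
  · exact e_ne h01 θ h8

include hQ hQf in
/-- **`|F| > 3`.** -/
theorem adj_sl [Finite F] [Finite Q] (hs : IsSimpleGroup Q) (h : EPT A Γ) (m : Model Q (Cfsg.Geo.omegaGL Qf))
    (hn : 7 ≤ Fintype.card ι) {p : ℕ} [hp : Fact p.Prime] [CharP F p] (hp3 : p ≠ 3) (ha : a ≠ 0) (h3 : (3 : F) ≠ 0)
    (hr : (sl θ).range = P) (hP : Cfsg.Geo.IsResidualCore (m.hat A) P) (hc : 3 < Nat.card F) : False := by
  -- a diagonal element
  obtain ⟨μ, hμ⟩ : ∃ μ : Fˣ, (μ * μ : Fˣ) ≠ 1 := by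
    by_contra hcon
    push Not at hcon
    have hF := Fintype.ofFinite F
    have h4 : ∀ μ : Fˣ, μ = 1 ∨ μ = -1 := by
      intro μ
      have h5 : (μ : F) * μ = 1 := by
        rw [← Units.val_mul, hcon, Units.val_one]
      have h6 : ((μ : F) - 1) * (μ + 1) = 0 := by linear_combination h5
      rcases mul_eq_zero.1 h6 with h7 | h7
      · left
        exact Units.ext (by rw [Units.val_one]; linear_combination h7)
      · right
        exact Units.ext (by rw [Units.val_neg, Units.val_one]; linear_combination h7)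
    classical
    have h5 : (Finset.univ : Finset Fˣ) ⊆ {1, -1} := by
      intro μ _
      rw [Finset.mem_insert, Finset.mem_singleton]
      exact h4 μ
    have h6 := (Finset.card_le_card h5).trans Finset.card_le_two
    rw [Finset.card_univ, Fintype.card_units] at h6
    rw [Nat.card_eq_fintype_card] at hc
    omega
  set c := cg θ (dgl (μ * μ)) with hc
  have hcS : c ∈ Cfsg.Geo.omegaGL Qf := by
    rw [hc, ← dgl_mul]
    exact cg_sq_mem θ hQf (dgl_symm μ)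
  have hcA : c ∈ m.hat A := by
    refine mem_hat_of_norm m hs h hP hcS fun x hx => ?_
    rw [← hr] at hx ⊢
    obtain ⟨g, rfl⟩ := hx
    exact ⟨cjL (dgl (μ * μ)) g, by rw [sl_apply, sl_apply, cjL_toGL, map_mul, map_mul, map_inv]⟩
  have hpz : polar Qf (ev θ (Mo.e F h02)) (ev θ (Mo.e F h01)) = 0 := by
    rw [polar_ev θ hQf, tr_e]
    simp [e_val]
  set t := sg hQ (ev θ (Mo.e F h02)) (ev θ (Mo.e F h01)) (Q_e hQf h02) hpz with ht
  have hiso : ∀ g x, Qf ((cg θ g : Matrix ι ι F) *ᵥ x) = Qf x := fun g x => cg_iso θ hQf g x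
  have htU : ∀ u ∈ Uh F, t * sl θ u * t⁻¹ = sl θ u := by
    rintro _ ⟨x, y, w, rfl⟩
    have e1 : (sl θ (mkU x y w) : Matrix ι ι F) *ᵥ ev θ (Mo.e F h02) = ev θ (Mo.e F h02) := by
      rw [sl_apply, cg_ev, cjS_mkU_02]
    have e2 : (sl θ (mkU x y w) : Matrix ι ι F) *ᵥ ev θ (Mo.e F h01) =
        ev θ (Mo.e F h01) + (-w) • ev θ (Mo.e F h02) := by
      rw [sl_apply, cg_ev, cjS_mkU_01, map_add, map_smul]
    have e3 : Qf ((sl θ (mkU x y w) : Matrix ι ι F) *ᵥ ev θ (Mo.e F h02)) = 0 := by rw [e1]; exact Q_e hQf h02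
    have e4 : polar Qf ((sl θ (mkU x y w) : Matrix ι ι F) *ᵥ ev θ (Mo.e F h02))
        ((sl θ (mkU x y w) : Matrix ι ι F) *ᵥ ev θ (Mo.e F h01)) = 0 := by
      rw [polar_fix (g := sl θ (mkU x y w)) (fun x => hiso _ x), hpz]
    have e5 : polar Qf (ev θ (Mo.e F h02)) (ev θ (Mo.e F h01) + (-w) • ev θ (Mo.e F h02)) = 0 := by
      rw [polar_add_r hQ, polar_smul_r hQ, hpz, polar_self_sing hQ (Q_e hQf h02), mul_zero, add_zero]
    have e6 : sl θ (mkU x y w) * t * (sl θ (mkU x y w))⁻¹ = t := by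
      rw [ht, sg_conj hQ (g := sl θ (mkU x y w)) (fun x => hiso _ x) _ _ e3 e4, sg_congr hQ e3 e4 (Q_e hQf h02) e5 e1 e2, sg_add_self hQ]
    rw [mul_inv_eq_iff_eq_mul] at e6 ⊢
    exact e6.symm
  have htc := cl_gl m h hP hr hp.out hp3 (Uh_pgroup (F := F) (p := p)) (Uh_index (F := F) (p := p))
    (fun z hz => ker_sl θ h3 hz) (C := {c}) (fun _ e => by rw [Set.mem_singleton_iff] at e; rw [e]; exact hcA)
    (fun D hD hne => by
      obtain ⟨h4, h5⟩ := core_ok θ (μ * μ) hD hne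
      refine ⟨h4, fun _ e k hk => ?_⟩
      rw [Set.mem_singleton_iff] at e
      rw [e]
      exact h5 k hk) (sg_mem hQ hn (Q_e hQf h02) hpz) (fun u hu => ⟨u, hu, htU u hu⟩) (Set.mem_singleton c)
  have hτ : t * c * t⁻¹ * c⁻¹ ∈ m.hat A := (m.hat A).mul_mem htc ((m.hat A).inv_mem hcA)
  have hcz : (c : Matrix ι ι F) *ᵥ ev θ (Mo.e F h02) = (1 : F) • ev θ (Mo.e F h02) := by
    rw [hc, cg_ev, cjS_dgl_02, one_smul]
  have hcv : (c : Matrix ι ι F) *ᵥ ev θ (Mo.e F h01) = (((μ * μ)⁻¹ : Fˣ) : F) • ev θ (Mo.e F h01) := by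
    rw [hc, cg_ev, cjS_dgl_01, map_smul]
  have hw : polar Qf (ev θ (Mo.e F h02)) ((1 - 1 * (((μ * μ)⁻¹ : Fˣ) : F)) • ev θ (Mo.e F h01)) = 0 := by
    rw [polar_smul_r hQ, hpz, mul_zero]
  rw [ht, sg_comm hQ (fun x => hiso _ x) (Q_e hQf h02) hpz hcz hcv hw] at hτ
  refine no_tau hQ hQf m ha h3 hr hP ?_ hw hτ
  intro e
  apply hμ
  rw [one_mul, sub_eq_zero] at e
  have : (μ * μ)⁻¹ = 1 := Units.ext (by rw [← e, Units.val_one])
  exact inv_eq_one.1 this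

end main

end Cfsg.Agent.H682.EP
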