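import Cfsg.Agent.H682.EP.L2Field
import Cfsg.Agent.H682.EP.SUMain

/-!
# S3499, own characteristic: `PSL(2, q³)` in `Ω₈⁺(q)`, `q` even (helper682)
-/

set_option autoImplicit false
set_option linter.unusedSectionVars false
set_option linter.unusedVariables false

namespace Cfsg.Agent.H682.EP.L2

open Matrix QuadraticMap Subgroup Cfsg.Agent.H911.SLTwo Cfsg.Agent.H875.Fn Cfsg.Agent.H284 Cfsg.Agent.H419.EP
  Cfsg.Agent.H682.EP
open scoped MatrixGroups

variable {F : Type*} [Field F] {ι : Type} [Fintype ι] [DecidableEq ι] {E : Type*} [Field E] {q : ℕ}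
  {K : Type*} [Field K]

/-- the rational model -/
structure Dat (q : ℕ) (rep : SpecialLinearGroup (Fin 2) E →* GL ι F) (Q : (ι → F) → F) (V : E × E → ι → F) (c : F)
    (i : F →+* K) (j : E →+* K) : Prop where
  C : Cub E q
  rat : ∀ x : K, x ^ q = x → ∃ y, i y = x
  hQ : Cfsg.Geo.IsNondegenerateQuadraticForm Q
  hc : c ≠ 0
  sing : Q (V (1, 0)) = 0
  gram : ∀ u w, i (polar Q (V u) (V w)) = i c * j (nm q (dt u w))
  actV : ∀ g w, (rep g : Matrix ι ι F) *ᵥ V w = V (mv g w)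
  sep : ∀ x, (∀ w, polar Q x (V w) = 0) → x = 0
  fix : ∀ g x, Q ((rep g : Matrix ι ι F) *ᵥ x) = Q x

/-- `x` represents the function `g` -/
def Rp (Q : (ι → F) → F) (V : E × E → ι → F) (c : F) (i : F →+* K) (j : E →+* K) (x : ι → F)
    (g : E × E → E) : Prop := ∀ w, i (polar Q x (V w)) = i c * j (g w)

/-- the root functions -/
def tv (q : ℕ) (κ : E) (w : E × E) : E := tc q (κ * (w.1 * (w.2 ^ q * (w.2 ^ q) ^ q)))

namespace Dat

variable {rep : SpecialLinearGroup (Fin 2) E →* GL ι F} {Q : (ι → F) → F} {V : E × E → ι → F} {c : F} {i : F →+* K}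
  {j : E →+* K} (D : Dat q rep Q V c i j)
include D

theorem uniq {x y : ι → F} {g g' : E × E → E} (hx : Rp Q V c i j x g) (hy : Rp Q V c i j y g')
    (h : ∀ w, g w = g' w) : x = y := by
  have h1 : x - y = 0 := by
    apply D.sep
    intro w
    apply i.injective
    have h2 : polar Q (x - y) (V w) = polar Q x (V w) - polar Q y (V w) := by
      have h3 := D.hQ.polar_bilinear.add_left (x - y) y (V w)
      rw [sub_add_cancel] at h3
      rw [h3, add_sub_cancel_right]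
    rw [h2, map_sub, hx w, hy w, h w, sub_self, map_zero]
  exact sub_eq_zero.1 h1

theorem rp_congr {x : ι → F} {g g' : E × E → E} (hx : Rp Q V c i j x g) (h : ∀ w, g w = g' w) :
    Rp Q V c i j x g' := fun w => by rw [hx w, h w]

theorem rp_add {x y : ι → F} {g g' : E × E → E} (hx : Rp Q V c i j x g) (hy : Rp Q V c i j y g') :
    Rp Q V c i j (x + y) (fun w => g w + g' w) := by
  intro w
  rw [D.hQ.polar_bilinear.add_left, map_add, hx w, hy w, map_add]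
  ring

theorem rp_smul {x : ι → F} {g : E × E → E} (hx : Rp Q V c i j x g) {a : F} {b : E} (hab : i a = j b) :
    Rp Q V c i j (a • x) (fun w => b * g w) := by
  intro w
  rw [D.hQ.polar_bilinear.smul_left, map_mul, hx w, hab, map_mul]
  ring

theorem rp_sub {x y : ι → F} {g g' : E × E → E} (hx : Rp Q V c i j x g) (hy : Rp Q V c i j y g') :
    Rp Q V c i j (x - y) (fun w => g w - g' w) := by
  have h1 := D.rp_add hx (D.rp_smul hy (a := -1) (b := -1) (by rw [map_neg, map_neg, map_one, map_one]))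
  have e1 : x + (-1 : F) • y = x - y := by rw [neg_one_smul, sub_eq_add_neg]
  rw [e1] at h1
  exact D.rp_congr h1 fun w => by ring

theorem rp_V (u : E × E) : Rp Q V c i j (V u) (fun w => nm q (dt u w)) := fun w => D.gram u w

theorem rp_act {x : ι → F} {g : E × E → E} (hx : Rp Q V c i j x g) (k : SpecialLinearGroup (Fin 2) E) :
    Rp Q V c i j ((rep k : Matrix ι ι F) *ᵥ x) (fun w => g (mv k⁻¹ w)) := by
  intro w
  have h1 : V w = (rep k : Matrix ι ι F) *ᵥ V (mv k⁻¹ w) := by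
    rw [D.actV, ← mv_mul, mul_inv_cancel, mv_one]
  have h2 : polar Q ((rep k : Matrix ι ι F) *ᵥ x) (V w) = polar Q x (V (mv k⁻¹ w)) := by
    rw [h1]
    exact polar_fix (D.fix k) _ _
  rw [h2, hx]

/-- `z` -/
theorem rp_z : Rp Q V c i j (V (1, 0)) (fun w => nm q w.2) :=
  D.rp_congr (D.rp_V (1, 0)) fun w => by
    unfold dt
    simp only [one_mul, zero_mul, sub_zero]

theorem dt_one (x : E) (w : E × E) : dt (x, (1 : E)) w = x * w.2 + w.1 := by
  unfold dt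
  simp only [one_mul]
  exact D.C.sub_eq _ _

/-- an explicit vector -/
theorem rp_v0 (x : E) : Rp Q V c i j (V (x, 1) + V (1, 1) + V (x + 1, 1) + V (0, 1))
    (fun w => tv q (x ^ q + (x ^ q) ^ q) w + (nm q x + 1 + nm q (x + 1)) * nm q w.2) := by
  refine D.rp_congr (D.rp_add (D.rp_add (D.rp_add (D.rp_V _) (D.rp_V _)) (D.rp_V _)) (D.rp_V _)) fun w => ?_
  simp only [D.dt_one, one_mul, zero_mul, zero_add]
  rw [D.C.nm_add (x * w.2), D.C.nm_add w.2, D.C.nm_add ((x + 1) * w.2), nm_mul, nm_mul]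
  have e1 : tc q ((x + 1) * w.2 * (w.1 ^ q * (w.1 ^ q) ^ q)) = tc q (x * w.2 * (w.1 ^ q * (w.1 ^ q) ^ q)) +
      tc q (w.2 * (w.1 ^ q * (w.1 ^ q) ^ q)) := by
    rw [← D.C.tc_add]
    congr 1
    ring
  have e2 : tc q (w.1 * (((x + 1) * w.2) ^ q * (((x + 1) * w.2) ^ q) ^ q)) =
      tc q (w.1 * ((x * w.2) ^ q * ((x * w.2) ^ q) ^ q)) + tc q (w.1 * (w.2 ^ q * (w.2 ^ q) ^ q)) +
        tc q ((x ^ q + (x ^ q) ^ q) * (w.1 * (w.2 ^ q * (w.2 ^ q) ^ q))) := by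
    rw [← D.C.tc_add, ← D.C.tc_add]
    congr 1
    simp only [mul_pow, D.C.add, one_pow]
    ring
  rw [e1, e2]
  unfold tv
  linear_combination (nm q w.1 + nm q w.1 + tc q (w.1 * ((x * w.2) ^ q * ((x * w.2) ^ q) ^ q)) +
    tc q (w.1 * (w.2 ^ q * (w.2 ^ q) ^ q)) + tc q (x * w.2 * (w.1 ^ q * (w.1 ^ q) ^ q)) +
      tc q (w.2 * (w.1 ^ q * (w.1 ^ q) ^ q))) * D.C.two

/-- the torus -/
theorem inv_hh (s : Eˣ) (w : E × E) : mv (hh s)⁻¹ w = (((s⁻¹ : Eˣ) : E) * w.1, (s : E) * w.2) := by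
  rw [hh_inv, mv_hh, inv_inv]

theorem rp_tor {x : ι → F} {κ a : E} {s : Eˣ} (hs : nm q (s : E) = 1)
    (hx : Rp Q V c i j x (fun w => tv q κ w + a * nm q w.2)) :
    Rp Q V c i j ((rep (hh s) : Matrix ι ι F) *ᵥ x) (fun w => tv q (κ * ((s⁻¹ : Eˣ) : E) ^ 2) w + a * nm q w.2) := by
  refine D.rp_congr (D.rp_act hx (hh s)) fun w => ?_
  rw [D.inv_hh]
  simp only [nm_mul, hs, one_mul]
  congr 1
  unfold tv
  simp only
  congr 1
  have h1 : (s : E) * ((s⁻¹ : Eˣ) : E) = 1 := Units.mul_inv s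
  have h2 : ((s : E) * w.2) ^ q * (((s : E) * w.2) ^ q) ^ q = ((s⁻¹ : Eˣ) : E) * (w.2 ^ q * (w.2 ^ q) ^ q) := by
    have h3 : (s : E) ^ q * ((s : E) ^ q) ^ q = ((s⁻¹ : Eˣ) : E) := by
      unfold nm at hs
      linear_combination ((s⁻¹ : Eˣ) : E) * hs - ((s : E) ^ q * ((s : E) ^ q) ^ q) * h1
    rw [mul_pow, mul_pow, ← h3]
    ring
  rw [h2]
  ring

/-- the unipotent group -/
theorem rp_U {x : ι → F} {κ a : E} (hx : Rp Q V c i j x (fun w => tv q κ w + a * nm q w.2)) (t : E) :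
    Rp Q V c i j ((rep (U t) : Matrix ι ι F) *ᵥ x) (fun w => (tv q κ w + a * nm q w.2) + tc q (κ * t) * nm q w.2) := by
  refine D.rp_congr (D.rp_act hx (U t)) fun w => ?_
  rw [U_inv, mv_U]
  simp only
  have h1 : tv q κ (w.1 + -t * w.2, w.2) = tv q κ w + tc q (κ * t) * nm q w.2 := by
    unfold tv
    simp only
    have h2 : κ * ((w.1 + -t * w.2) * (w.2 ^ q * (w.2 ^ q) ^ q)) =
        κ * (w.1 * (w.2 ^ q * (w.2 ^ q) ^ q)) + nm q w.2 * (κ * t) := by
      unfold nm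
      rw [D.C.neg_eq t]
      ring
    rw [h2, D.C.tc_add, D.C.tc_fix (D.C.nm_pow _)]
    ring
  rw [h1]
  ring

/-- orthogonality -/
theorem z_orth {x : ι → F} {κ a : E} (hx : Rp Q V c i j x (fun w => tv q κ w + a * nm q w.2)) :
    polar Q (V (1, 0)) x = 0 := by
  apply i.injective
  rw [polar_comm, hx (1, 0), map_zero]
  have h1 : tv q κ ((1 : E), (0 : E)) = 0 := by
    unfold tv
    simp only
    rw [D.C.zp, D.C.zp, mul_zero, mul_zero, mul_zero, D.C.tc_zero]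
  simp only
  rw [h1, D.C.nm_zero, mul_zero, add_zero, map_zero, mul_zero]

theorem U_z (t : E) : (rep (U t) : Matrix ι ι F) *ᵥ V (1, 0) = V (1, 0) := by
  rw [D.actV, mv_U]
  simp

theorem hh_z {s : Eˣ} (hs : nm q (s : E) = 1) : (rep (hh s) : Matrix ι ι F) *ᵥ V (1, 0) = V (1, 0) := by
  refine D.uniq (D.rp_act D.rp_z (hh s)) D.rp_z fun w => ?_
  rw [D.inv_hh]
  simp only [nm_mul, hs, one_mul]

/-- the Siegel element -/
noncomputable def T {x : ι → F} {κ a : E} (hx : Rp Q V c i j x (fun w => tv q κ w + a * nm q w.2)) : GL ι F :=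
  sg D.hQ (V (1, 0)) x D.sing (D.z_orth hx)

/-- conjugation -/
theorem T_conj {x x' : ι → F} {κ a κ' a' : E} (hx : Rp Q V c i j x (fun w => tv q κ w + a * nm q w.2))
    (hx' : Rp Q V c i j x' (fun w => tv q κ' w + a' * nm q w.2)) {g : SpecialLinearGroup (Fin 2) E}
    (hg : (rep g : Matrix ι ι F) *ᵥ V (1, 0) = V (1, 0)) {b : F}
    (hk : (rep g : Matrix ι ι F) *ᵥ x = x' + b • V (1, 0)) : rep g * D.T hx * (rep g)⁻¹ = D.T hx' := by
  unfold T
  have h1 : Q ((rep g : Matrix ι ι F) *ᵥ V (1, 0)) = 0 := by rw [hg]; exact D.sing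
  have h2 : polar Q ((rep g : Matrix ι ι F) *ᵥ V (1, 0)) ((rep g : Matrix ι ι F) *ᵥ x) = 0 := by
    rw [polar_fix (D.fix g)]; exact D.z_orth hx
  have h3 : polar Q (V (1, 0)) (x' + b • V (1, 0)) = 0 := by
    rw [polar_add_r D.hQ, polar_smul_r D.hQ, polar_self_sing D.hQ D.sing, D.z_orth hx', mul_zero, add_zero]
  rw [sg_conj D.hQ (D.fix g) _ _ h1 h2, sg_congr D.hQ h1 h2 D.sing h3 hg hk, sg_add_self D.hQ]

theorem T_comm_U {x : ι → F} {κ a : E} (hx : Rp Q V c i j x (fun w => tv q κ w + a * nm q w.2)) (t : E) :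
    rep (U t) * D.T hx * (rep (U t))⁻¹ = D.T hx := by
  obtain ⟨b, hb⟩ := D.rat (j (tc q (κ * t))) (by rw [← map_pow, D.C.tc_pow])
  exact D.T_conj hx hx (D.U_z t) (D.uniq (D.rp_U hx t) (D.rp_add hx (D.rp_smul D.rp_z hb)) fun w => rfl)

/-- the commutator with the torus -/
theorem T_comm_tor {x : ι → F} {κ a : E} {s : Eˣ} (hs : nm q (s : E) = 1)
    (hx : Rp Q V c i j x (fun w => tv q κ w + a * nm q w.2)) : ∃ (x' : ι → F)
      (hx' : Rp Q V c i j x' (fun w => tv q (κ * (1 - ((s⁻¹ : Eˣ) : E) ^ 2)) w + 0 * nm q w.2)),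
      D.T hx * rep (hh s) * (D.T hx)⁻¹ * (rep (hh s))⁻¹ = D.T hx' := by
  have h0 := D.rp_sub hx (D.rp_tor hs hx)
  have h1 : Rp Q V c i j (x - (rep (hh s) : Matrix ι ι F) *ᵥ x)
      (fun w => tv q (κ * (1 - ((s⁻¹ : Eˣ) : E) ^ 2)) w + 0 * nm q w.2) := by
    refine D.rp_congr h0 fun w => ?_
    have h2 : tv q κ w = tv q (κ * (1 - ((s⁻¹ : Eˣ) : E) ^ 2)) w + tv q (κ * ((s⁻¹ : Eˣ) : E) ^ 2) w := by
      unfold tv
      rw [← D.C.tc_add]
      congr 1
      ring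
    rw [h2]
    ring
  refine ⟨_, h1, ?_⟩
  have e : D.T hx * rep (hh s) * (D.T hx)⁻¹ * (rep (hh s))⁻¹ =
      D.T hx * (rep (hh s) * D.T hx * (rep (hh s))⁻¹)⁻¹ := by group
  have h3 := D.T_conj hx (D.rp_tor hs hx) (D.hh_z hs) (b := 0) (by rw [zero_smul, add_zero])
  rw [e, h3, mul_inv_eq_iff_eq_mul]
  unfold T
  have h4 : polar Q (V (1, 0)) (x - (rep (hh s) : Matrix ι ι F) *ᵥ x + (rep (hh s) : Matrix ι ι F) *ᵥ x) = 0 := by
    rw [sub_add_cancel]
    exact D.z_orth hx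
  rw [sg_mul D.hQ _ _ _ h4]
  exact sg_congr D.hQ _ _ _ _ rfl (sub_add_cancel _ _).symm

end Dat

end Cfsg.Agent.H682.EP.L2
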