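import Cfsg.Agent.H682.EP.L2End

/-!
# S3499, own characteristic: `PSL(2, q³)` in `Ω₈⁺(q)`, `q` even, the vectors (helper682)
-/

set_option autoImplicit false
set_option linter.unusedSectionVars false
set_option linter.unusedVariables false

namespace Cfsg.Agent.H682.EP.L2

open Matrix QuadraticMap Subgroup Cfsg Cfsg.Geo Cfsg.Agent.H911.SLTwo Cfsg.Agent.H875.Fn
open scoped MatrixGroups

variable {F : Type*} [Field F] {ι : Type} [Fintype ι] [DecidableEq ι] {E : Type*} [Field E] {q : ℕ}
  {K : Type*} [Field K]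

theorem mv_ne_zero (g : SpecialLinearGroup (Fin 2) E) : mv g ((1 : E), (0 : E)) ≠ 0 := by
  intro h
  have h1 : mv g⁻¹ (mv g ((1 : E), (0 : E))) = (1, 0) := by rw [← mv_mul, inv_mul_cancel, mv_one]
  rw [h] at h1
  unfold mv at h1
  have h2 := congrArg Prod.fst h1
  simp at h2

theorem mv_zero (g : SpecialLinearGroup (Fin 2) E) : mv g (0 : E × E) = 0 := by
  unfold mv
  ext <;> simp

section V

variable (rep : SpecialLinearGroup (Fin 2) E →* GL ι F) (v₀ : ι → F)

open Classical in
/-- the vectors -/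
noncomputable def vec (w : E × E) : ι → F :=
  if h : w = 0 then 0 else (rep (exists_mv_one h).choose : Matrix ι ι F) *ᵥ v₀

variable {rep v₀}

theorem vec_zero : vec rep v₀ 0 = 0 := by
  unfold vec
  rw [dif_pos rfl]

theorem vec_mv (hU : ∀ t, (rep (U t) : Matrix ι ι F) *ᵥ v₀ = v₀) (g : SpecialLinearGroup (Fin 2) E) :
    vec rep v₀ (mv g (1, 0)) = (rep g : Matrix ι ι F) *ᵥ v₀ := by
  unfold vec
  rw [dif_neg (mv_ne_zero g)]
  set h := (exists_mv_one (mv_ne_zero g)).choose with hh'
  have h1 : mv h (1, 0) = mv g (1, 0) := (exists_mv_one (mv_ne_zero g)).choose_spec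
  have h2 : g⁻¹ * h ∈ Us E := by
    rw [mem_Us_iff, mv_mul, h1, ← mv_mul, inv_mul_cancel, mv_one]
  obtain ⟨t, ht⟩ := h2
  have h3 : h = g * U t := by rw [← ht, mul_inv_cancel_left]
  rw [h3, map_mul, Units.val_mul, ← Matrix.mulVec_mulVec, hU]

theorem vec_act (hU : ∀ t, (rep (U t) : Matrix ι ι F) *ᵥ v₀ = v₀) (g : SpecialLinearGroup (Fin 2) E) (w : E × E) :
    (rep g : Matrix ι ι F) *ᵥ vec rep v₀ w = vec rep v₀ (mv g w) := by
  by_cases hw : w = 0
  · rw [hw, mv_zero, vec_zero, Matrix.mulVec_zero]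
  · obtain ⟨h, rfl⟩ := exists_mv_one hw
    rw [vec_mv hU, ← mv_mul, vec_mv hU, map_mul, Units.val_mul, Matrix.mulVec_mulVec]

theorem vec_smul (hU : ∀ t, (rep (U t) : Matrix ι ι F) *ᵥ v₀ = v₀) {n : E → F} (n0 : n 0 = 0)
    (hn : ∀ s : Eˣ, (rep (hh s) : Matrix ι ι F) *ᵥ v₀ = n s • v₀) (t : E) (w : E × E) :
    vec rep v₀ (t • w) = n t • vec rep v₀ w := by
  by_cases ht : t = 0
  · rw [ht, zero_smul, vec_zero, n0, zero_smul]
  · by_cases hw : w = 0
    · rw [hw, smul_zero, vec_zero, smul_zero]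
    · obtain ⟨h, rfl⟩ := exists_mv_one hw
      have h1 : t • mv h ((1 : E), (0 : E)) = mv (h * hh (Units.mk0 t ht)) (1, 0) := by
        rw [mv_mul, mv_hh, ← mv_smul]
        congr 1
        ext <;> simp
      rw [h1, vec_mv hU, vec_mv hU, map_mul, Units.val_mul, ← Matrix.mulVec_mulVec, hn, Matrix.mulVec_smul,
        Units.val_mk0]

end V

/-- **the model** -/
theorem dat_of (C : Cub E q) {rep : SpecialLinearGroup (Fin 2) E →* GL ι F} {v₀ : ι → F} (h0 : v₀ ≠ 0)
    (hU : ∀ t, (rep (U t) : Matrix ι ι F) *ᵥ v₀ = v₀) {i : F →+* K} {j : E →+* K}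
    (rat : ∀ x : K, x ^ q = x → ∃ y, i y = x) (hn : ∀ (s : Eˣ) (a : F), i a = j (nm q (s : E)) →
      (rep (hh s) : Matrix ι ι F) *ᵥ v₀ = a • v₀) {Q : (ι → F) → F} (hQ : IsNondegenerateQuadraticForm Q)
    (sing : Q v₀ = 0) (fix : ∀ g x, Q ((rep g : Matrix ι ι F) *ᵥ x) = Q x)
    (hirr : ActsIrreducibly (matrixSet rep.range)) :
    ∃ (V : E × E → ι → F) (c : F), Dat q rep Q V c i j := by
  obtain ⟨n, hin⟩ : ∃ n : E → F, ∀ x, i (n x) = j (nm q x) := by
    have h1 : ∀ x : E, ∃ y, i y = j (nm q x) := fun x => rat _ (by rw [← map_pow, C.nm_pow])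
    choose n hn using h1
    exact ⟨n, hn⟩
  have n0 : n 0 = 0 := by
    apply i.injective
    rw [hin, C.nm_zero, map_zero, map_zero]
  have hns : ∀ s : Eˣ, (rep (hh s) : Matrix ι ι F) *ᵥ v₀ = n s • v₀ := fun s => hn s _ (hin _)
  set V := vec rep v₀ with hV
  have hact := fun g w => vec_act (rep := rep) (v₀ := v₀) hU g w
  have hsm := fun t w => vec_smul (rep := rep) (v₀ := v₀) hU n0 hns t w
  rw [← hV] at hact hsm
  have hV1 : V (1, 0) = v₀ := by
    have h1 := vec_mv (rep := rep) (v₀ := v₀) hU 1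
    rw [mv_one, map_one, Units.val_one, Matrix.one_mulVec] at h1
    exact h1
  have p0l : ∀ y, polar Q 0 y = 0 := fun y => by
    have := hQ.polar_bilinear.smul_left 0 0 y
    rw [zero_smul, zero_mul] at this
    exact this
  have p0r : ∀ y, polar Q y 0 = 0 := fun y => by
    have := hQ.polar_bilinear.smul_right 0 y 0
    rw [zero_smul, zero_mul] at this
    exact this
  have pvv : polar Q v₀ v₀ = 0 := by
    unfold polar
    have h1 : v₀ + v₀ = (2 : F) • v₀ := by rw [two_smul]
    rw [h1, hQ.smul, sing]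
    ring
  have hgram : ∀ u w, i (polar Q (V u) (V w)) = i (polar Q (V (1, 0)) (V (0, 1))) * j (nm q (dt u w)) := by
    intro u w
    by_cases hd : dt u w = 0
    · rw [hd, C.nm_zero, map_zero, mul_zero]
      by_cases hu : u = 0
      · rw [hu]
        have : V 0 = 0 := vec_zero
        rw [this, p0l, map_zero]
      · obtain ⟨g, rfl⟩ := exists_mv_one hu
        obtain ⟨w', rfl⟩ : ∃ w', w = mv g w' := ⟨mv g⁻¹ w, by rw [← mv_mul, mul_inv_cancel, mv_one]⟩
        rw [dt_mv] at hd
        have h1 : w'.2 = 0 := by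
          unfold dt at hd
          simpa using hd
        have h2 : w' = w'.1 • ((1 : E), (0 : E)) := by
          ext <;> simp [h1]
        rw [← hact, ← hact, polar_fix (fix g), h2, hsm, hV1, hQ.polar_bilinear.smul_right, pvv, mul_zero, map_zero]
    · obtain ⟨g, hg1, hg2⟩ := exists_mv (c := u) (d := (dt u w)⁻¹ • w) (by
        have : dt u ((dt u w)⁻¹ • w) = (dt u w)⁻¹ * dt u w := by
          unfold dt
          simp only [Prod.smul_fst, Prod.smul_snd, smul_eq_mul]
          ring
        rw [this, inv_mul_cancel₀ hd])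
      have h2 : w = dt u w • mv g ((0 : E), (1 : E)) := by
        rw [hg2, smul_smul, mul_inv_cancel₀ hd, one_smul]
      have h3 : V w = n (dt u w) • V (mv g ((0 : E), (1 : E))) := by
        rw [← hsm, ← h2]
      rw [h3, ← hg1, ← hact, ← hact, hQ.polar_bilinear.smul_right, polar_fix (fix g), map_mul, hg1, hin]
      ring
  have hspan : Submodule.span F (Set.range V) = ⊤ := by
    rcases hirr (Submodule.span F (Set.range V)) (by
      rintro s ⟨g, hg, rfl⟩ _ ⟨v, hv, rfl⟩
      obtain ⟨g, rfl⟩ := hg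
      rw [Matrix.toLin'_apply]
      induction hv using Submodule.span_induction with
      | mem x hx =>
        obtain ⟨w, rfl⟩ := hx
        change (rep g : Matrix ι ι F) *ᵥ V w ∈ _
        rw [hact]
        exact Submodule.subset_span ⟨_, rfl⟩
      | zero => rw [Matrix.mulVec_zero]; exact Submodule.zero_mem _
      | add x y _ _ hx hy => rw [Matrix.mulVec_add]; exact Submodule.add_mem _ hx hy
      | smul a x _ hx => rw [Matrix.mulVec_smul]; exact Submodule.smul_mem _ _ hx) with h1 | h1
    · exfalso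
      apply h0
      have : V (1, 0) ∈ Submodule.span F (Set.range V) := Submodule.subset_span ⟨_, rfl⟩
      rw [h1, Submodule.mem_bot] at this
      rw [← hV1, this]
    · exact h1
  have hsep : ∀ x, (∀ w, polar Q x (V w) = 0) → x = 0 := by
    intro x hx
    by_contra hx0
    obtain ⟨-, y, hy⟩ := hQ.nondegenerate x hx0
    apply hy
    have hyV : y ∈ Submodule.span F (Set.range V) := by rw [hspan]; trivial
    clear hy
    induction hyV using Submodule.span_induction with
    | mem y hy =>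
      obtain ⟨w, rfl⟩ := hy
      exact hx w
    | zero => exact p0r x
    | add y y' _ _ hy hy' => rw [hQ.polar_bilinear.add_right, hy, hy', add_zero]
    | smul a y _ hy => rw [hQ.polar_bilinear.smul_right, hy, mul_zero]
  refine ⟨V, polar Q (V (1, 0)) (V (0, 1)), ?_⟩
  exact
    { C := C
      rat := rat
      hQ := hQ
      hc := by
        intro hc
        apply h0
        apply hsep
        intro w
        apply i.injective
        have h1 := hgram (1, 0) w
        rw [hc, map_zero, zero_mul, hV1] at h1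
        rw [h1, map_zero]
      sing := by rw [hV1, sing]
      gram := hgram
      actV := hact
      sep := hsep
      fix := fix }

end Cfsg.Agent.H682.EP.L2
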