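import Cfsg.Agent.LieClassical.SLGen
import Cfsg.Agent.H682.EP.Engine

/-!
# The overgroups of the unitriangular subgroup of `SL(3, E)` (helper682, S3499)

* `core_SL` : for a proper subgroup `H ≥ U`, the intersection of the `H`-conjugates of `U` is one of the three subgroups
  `R1`, `R2`, `U`.
-/

set_option autoImplicit false
set_option linter.unusedVariables false

namespace Cfsg.Agent.H682.EP

open Matrix Subgroup

variable {E : Type*} [Field E]

/-- the upper unitriangular matrices -/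
def mkU (a b c : E) : SpecialLinearGroup (Fin 3) E := ⟨!![1, a, b; 0, 1, c; 0, 0, 1], by
  rw [Matrix.det_fin_three]
  simp⟩

theorem mkU_val (a b c : E) (i j : Fin 3) : (mkU a b c).1 i j = !![1, a, b; 0, 1, c; 0, 0, 1] i j := rfl

theorem one_ent (i j : Fin 3) : (1 : SpecialLinearGroup (Fin 3) E).1 i j = (1 : Matrix (Fin 3) (Fin 3) E) i j := rfl

theorem ext3 {g h : SpecialLinearGroup (Fin 3) E} (H : ∀ i j, g.1 i j = h.1 i j) : g = h :=
  Subtype.ext (Matrix.ext H)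

/-- entries of a product -/
theorem mul_ent (g h : SpecialLinearGroup (Fin 3) E) (i j : Fin 3) :
    (g * h).1 i j = g.1 i 0 * h.1 0 j + g.1 i 1 * h.1 1 j + g.1 i 2 * h.1 2 j := by
  have : (g * h).1 = g.1 * h.1 := rfl
  rw [this, Matrix.mul_apply, Fin.sum_univ_three]

theorem mkU_mul (a b c a' b' c' : E) : mkU a b c * mkU a' b' c' = mkU (a + a') (b' + a * c' + b) (c + c') := by
  apply ext3
  intro i j
  rw [mul_ent]
  simp only [mkU_val]
  fin_cases i <;> fin_cases j <;> simp <;> ring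

theorem mkU_zero : mkU (0 : E) 0 0 = 1 := by
  apply ext3
  intro i j
  rw [mkU_val, one_ent]
  fin_cases i <;> fin_cases j <;> simp

theorem mkU_inv (a b c : E) : (mkU a b c)⁻¹ = mkU (-a) (a * c - b) (-c) := by
  rw [inv_eq_iff_mul_eq_one, mkU_mul, ← mkU_zero]
  congr 1 <;> ring

/-- `U` -/
def Uh (E : Type*) [Field E] : Subgroup (SpecialLinearGroup (Fin 3) E) where
  carrier := {g | ∃ a b c, g = mkU a b c}
  one_mem' := ⟨0, 0, 0, mkU_zero.symm⟩
  mul_mem' := by
    rintro _ _ ⟨a, b, c, rfl⟩ ⟨a', b', c', rfl⟩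
    exact ⟨_, _, _, mkU_mul a b c a' b' c'⟩
  inv_mem' := by
    rintro _ ⟨a, b, c, rfl⟩
    exact ⟨_, _, _, mkU_inv a b c⟩

theorem mkU_mem (a b c : E) : mkU a b c ∈ Uh E := ⟨a, b, c, rfl⟩

/-- the centre `⟨e₀⟩` -/
def R1 (E : Type*) [Field E] : Subgroup (SpecialLinearGroup (Fin 3) E) where
  carrier := {g | ∃ a b, g = mkU a b 0}
  one_mem' := ⟨0, 0, mkU_zero.symm⟩
  mul_mem' := by
    rintro _ _ ⟨a, b, rfl⟩ ⟨a', b', rfl⟩
    refine ⟨a + a', b' + b, ?_⟩
    rw [mkU_mul, mul_zero, add_zero, add_zero]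
  inv_mem' := by
    rintro _ ⟨a, b, rfl⟩
    refine ⟨-a, -b, ?_⟩
    rw [mkU_inv, mul_zero, zero_sub, neg_zero]

/-- the axis `⟨e₀, e₁⟩` -/
def R2 (E : Type*) [Field E] : Subgroup (SpecialLinearGroup (Fin 3) E) where
  carrier := {g | ∃ b c, g = mkU 0 b c}
  one_mem' := ⟨0, 0, mkU_zero.symm⟩
  mul_mem' := by
    rintro _ _ ⟨b, c, rfl⟩ ⟨b', c', rfl⟩
    refine ⟨b' + b, c + c', ?_⟩
    rw [mkU_mul, zero_mul, add_zero, add_zero]
  inv_mem' := by
    rintro _ ⟨b, c, rfl⟩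
    refine ⟨-b, -c, ?_⟩
    rw [mkU_inv, zero_mul, zero_sub, neg_zero]

variable {H : Subgroup (SpecialLinearGroup (Fin 3) E)}

theorem mem_of_entries {g : SpecialLinearGroup (Fin 3) E} (h00 : g.1 0 0 = 1) (h11 : g.1 1 1 = 1) (h22 : g.1 2 2 = 1)
    (h10 : g.1 1 0 = 0) (h20 : g.1 2 0 = 0) (h21 : g.1 2 1 = 0) : g = mkU (g.1 0 1) (g.1 0 2) (g.1 1 2) := by
  apply ext3
  intro i j
  rw [mkU_val]
  fin_cases i <;> fin_cases j <;> simp [h00, h11, h22, h10, h20, h21]

theorem inv_mul_ent {g k : SpecialLinearGroup (Fin 3) E} {w : Fin 3 → E} {l : E} (h : ∀ i, k.1 i 0 = l * (g.1 i 0 * w 0 +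
    g.1 i 1 * w 1 + g.1 i 2 * w 2)) (i : Fin 3) : (g⁻¹ * k).1 i 0 = l * w i := by
  have h1 : ∀ a b : Fin 3, (g⁻¹).1 a 0 * g.1 0 b + (g⁻¹).1 a 1 * g.1 1 b + (g⁻¹).1 a 2 * g.1 2 b =
      (1 : Matrix (Fin 3) (Fin 3) E) a b := by
    intro a b
    rw [← mul_ent, inv_mul_cancel, one_ent]
  rw [mul_ent, h 0, h 1, h 2]
  have e0 := h1 i 0
  have e1 := h1 i 1
  have e2 := h1 i 2
  have e3 : (1 : Matrix (Fin 3) (Fin 3) E) i 0 * w 0 + (1 : Matrix (Fin 3) (Fin 3) E) i 1 * w 1 +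
      (1 : Matrix (Fin 3) (Fin 3) E) i 2 * w 2 = w i := by
    have h2 := congrFun (Matrix.one_mulVec w) i
    rw [Matrix.mulVec, dotProduct, Fin.sum_univ_three] at h2
    exact h2
  linear_combination l * w 0 * e0 + l * w 1 * e1 + l * w 2 * e2 + l * e3

/-- a transvection with centre in the orbit of `e₀` -/
theorem trans_mem (hU : Uh E ≤ H) {i j : Fin 3} (hij : i ≠ j) (c : E) {h : SpecialLinearGroup (Fin 3) E} (hh : h ∈ H)
    {l : E} (hl : l ≠ 0) (hi : h.1 i 0 = l) (hk : ∀ k, k ≠ i → h.1 k 0 = 0) :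
    SpecialLinearGroup.transvection hij c ∈ H := by
  have h1 : SpecialLinearGroup.transvection hij c = h * mkU (c / l * h.1 j 1) (c / l * h.1 j 2) 0 * h⁻¹ := by
    rw [eq_mul_inv_iff_mul_eq]
    apply ext3
    intro a b
    have hj : h.1 j 0 = 0 := hk j (Ne.symm hij)
    have e1 : c / l * l = c := div_mul_cancel₀ c hl
    have hL : (SpecialLinearGroup.transvection hij c * h).1 a b = h.1 a b + (if a = i then c * h.1 j b else 0) := by
      have : (SpecialLinearGroup.transvection hij c * h).1 = (1 + Matrix.single i j c) * h.1 := rfl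
      rw [this, Matrix.add_mul, Matrix.one_mul, Matrix.add_apply]
      congr 1
      split_ifs with h2
      · rw [h2, Matrix.single_mul_apply_same]
      · exact Matrix.single_mul_apply_of_ne _ _ _ _ _ h2 _
    have hR : (h * mkU (c / l * h.1 j 1) (c / l * h.1 j 2) 0).1 a b = h.1 a b + h.1 a 0 * (c / l * h.1 j b) := by
      rw [mul_ent]
      simp only [mkU_val]
      fin_cases b <;> simp [hj] <;> ring
    rw [hL, hR]
    split_ifs with h2
    · rw [h2, hi]
      linear_combination -(h.1 j b) * e1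
    · rw [hk a h2, zero_mul]
  rw [h1]
  exact H.mul_mem (H.mul_mem hh (hU (mkU_mem _ _ _))) (H.inv_mem hh)

/-- **a proper overgroup of `U` stabilises the point `⟨e₀⟩` or the line `⟨e₀, e₁⟩`** -/
theorem stab_or (hU : Uh E ≤ H) (hne : H ≠ ⊤) :
    (∀ g ∈ H, g.1 1 0 = 0 ∧ g.1 2 0 = 0) ∨ (∀ g ∈ H, g.1 2 0 = 0 ∧ g.1 2 1 = 0) := by
  by_contra hcon
  rw [not_or] at hcon
  obtain ⟨hA, hB⟩ := hcon
  apply hne
  -- a vector off the line
  obtain ⟨g, hg, hg2⟩ : ∃ g ∈ H, g.1 2 0 ≠ 0 := by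
    by_contra h1
    push Not at h1
    apply hB
    intro g hg
    refine ⟨h1 g hg, ?_⟩
    by_contra h2
    apply hA
    intro k hk
    refine ⟨?_, h1 k hk⟩
    have h3 := h1 _ (H.mul_mem hg hk)
    rw [mul_ent, h1 g hg, h1 k hk, zero_mul, mul_zero, zero_add, add_zero] at h3
    exact (mul_eq_zero.1 h3).resolve_left h2
  have A2 : ∀ v : Fin 3 → E, v 2 ≠ 0 → ∃ h ∈ H, ∃ l : E, l ≠ 0 ∧ ∀ i, h.1 i 0 = l * v i := by
    intro v hv
    refine ⟨mkU 0 ((g.1 2 0 / v 2 * v 0 - g.1 0 0) / g.1 2 0) ((g.1 2 0 / v 2 * v 1 - g.1 1 0) / g.1 2 0) * g,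
      H.mul_mem (hU (mkU_mem _ _ _)) hg, g.1 2 0 / v 2, div_ne_zero hg2 hv, fun i => ?_⟩
    rw [mul_ent]
    simp only [mkU_val]
    fin_cases i
    · simp
      field_simp
      ring
    · simp
      field_simp
      ring
    · simp
      field_simp
  -- a vector on the line
  obtain ⟨k, hk, hk2, hk1⟩ : ∃ k ∈ H, k.1 2 0 = 0 ∧ k.1 1 0 ≠ 0 := by
    by_contra h1
    push Not at h1
    apply hB
    have key : ∀ g ∈ H, ∀ w : Fin 3 → E, w 2 = 0 → w 1 ≠ 0 →
        g.1 2 0 * w 0 + g.1 2 1 * w 1 + g.1 2 2 * w 2 = 0 := by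
      intro g hg w hw2 hw1
      by_contra h2
      obtain ⟨k, hk, l, hl, hkv⟩ := A2 (fun i => g.1 i 0 * w 0 + g.1 i 1 * w 1 + g.1 i 2 * w 2) h2
      have h3 := fun i => inv_mul_ent hkv i
      have h4 := h1 _ (H.mul_mem (H.inv_mem hg) hk) (by rw [h3, hw2, mul_zero])
      rw [h3] at h4
      exact mul_ne_zero hl hw1 h4
    intro g hg
    have h2 := key g hg ![0, 1, 0] rfl one_ne_zero
    have h3 := key g hg ![1, 1, 0] rfl one_ne_zero
    simp at h2 h3
    rw [h2, add_zero] at h3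
    exact ⟨h3, h2⟩
  have A4 : ∀ v : Fin 3 → E, v 2 = 0 → v 1 ≠ 0 → ∃ h ∈ H, ∃ l : E, l ≠ 0 ∧ ∀ i, h.1 i 0 = l * v i := by
    intro v hv2 hv1
    refine ⟨mkU ((k.1 1 0 / v 1 * v 0 - k.1 0 0) / k.1 1 0) 0 0 * k,
      H.mul_mem (hU (mkU_mem _ _ _)) hk, k.1 1 0 / v 1, div_ne_zero hk1 hv1, fun i => ?_⟩
    rw [mul_ent]
    simp only [mkU_val]
    fin_cases i
    · simp
      field_simp
      ring
    · simp
      field_simp
    · simp [hk2, hv2]
  have A5 : ∀ i : Fin 3, ∃ h ∈ H, h.1 i 0 ≠ 0 ∧ ∀ k, k ≠ i → h.1 k 0 = 0 := by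
    intro i
    have hi : i = 0 ∨ i = 1 ∨ i = 2 := by fin_cases i <;> simp
    rcases hi with rfl | rfl | rfl
    · refine ⟨1, H.one_mem, ?_, fun k hk => ?_⟩
      · rw [one_ent, Matrix.one_apply_eq]
        exact one_ne_zero
      · rw [one_ent, Matrix.one_apply_ne hk]
    · obtain ⟨h, hh, l, hl, hv⟩ := A4 ![0, 1, 0] rfl one_ne_zero
      refine ⟨h, hh, ?_, fun k hk => ?_⟩
      · rw [hv]
        simpa using hl
      · rw [hv]
        fin_cases k
        · simp
        · exact absurd rfl hk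
        · simp
    · obtain ⟨h, hh, l, hl, hv⟩ := A2 ![0, 0, 1] one_ne_zero
      refine ⟨h, hh, ?_, fun k hk => ?_⟩
      · rw [hv]
        simpa using hl
      · rw [hv]
        fin_cases k
        · simp
        · simp
        · exact absurd rfl hk
  rw [eq_top_iff, ← Cfsg.Agent.LieClassical.SLGen.closure_transvections, Subgroup.closure_le]
  rintro _ ⟨i, j, hij, c, rfl⟩
  obtain ⟨h, hh, h1, h2⟩ := A5 i
  exact trans_mem hU hij c hh h1 rfl h2

/-- `H` consists of upper triangular matrices -/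
theorem core_of_tri (hU : Uh E ≤ H) (h : ∀ g ∈ H, g.1 1 0 = 0 ∧ g.1 2 0 = 0 ∧ g.1 2 1 = 0) :
    coreIn H (Uh E) = Uh E := by
  apply coreIn_eq
  rintro g hg _ ⟨a, b, c, rfl⟩
  obtain ⟨h1, h2, h3⟩ := h g hg
  obtain ⟨h1', h2', h3'⟩ := h _ (H.inv_mem hg)
  have hdiag : ∀ i, g.1 i i * (g⁻¹).1 i i = 1 := by
    intro i
    have h4 : (g * g⁻¹).1 i i = 1 := by rw [mul_inv_cancel, one_ent, Matrix.one_apply_eq]
    rw [mul_ent] at h4
    have hi : i = 0 ∨ i = 1 ∨ i = 2 := by fin_cases i <;> simp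
    rcases hi with rfl | rfl | rfl
    · rw [h1', h2', mul_zero, mul_zero, add_zero, add_zero] at h4
      exact h4
    · rw [h1, h3', mul_zero, zero_mul, zero_add, add_zero] at h4
      exact h4
    · rw [h2, h3, zero_mul, zero_mul, zero_add, zero_add] at h4
      exact h4
  have d0 := hdiag 0
  have d1 := hdiag 1
  have d2 := hdiag 2
  refine ⟨_, _, _, mem_of_entries ?_ ?_ ?_ ?_ ?_ ?_⟩
  all_goals
    rw [mul_ent]
    simp only [mul_ent, mkU_val, h1, h2, h3, h1', h2', h3']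
    simp at d0 d1 d2 ⊢
    try first | exact d0 | exact d1 | exact d2

/-- **The core of `U` in a proper overgroup.** -/
theorem core_SL (hU : Uh E ≤ H) (hne : H ≠ ⊤) :
    coreIn H (Uh E) = R1 E ∨ coreIn H (Uh E) = R2 E ∨ coreIn H (Uh E) = Uh E := by
  rcases stab_or hU hne with h | h
  · -- the point
    by_cases hc : ∃ k ∈ coreIn H (Uh E), k.1 1 2 ≠ 0
    · right; right
      apply core_of_tri hU
      intro g hg
      refine ⟨(h g hg).1, (h g hg).2, ?_⟩
      obtain ⟨k, hk, hk12⟩ := hc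
      obtain ⟨a, b, c, e⟩ := hk g hg
      obtain ⟨a', b', c', rfl⟩ := coreIn_le H (Uh E) hk
      have h1 : mkU a' b' c' * g = g * mkU a b c := by rw [← e]; group
      have h2 := congrArg (fun x : SpecialLinearGroup (Fin 3) E => x.1 1 1) h1
      simp only [mul_ent, mkU_val] at h2
      simp [(h g hg).1] at h2
      simp [mkU_val] at hk12
      exact h2.resolve_left hk12
    · left
      push Not at hc
      apply le_antisymm
      · intro k hk
        obtain ⟨a, b, c, rfl⟩ := coreIn_le H (Uh E) hk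
        have h1 := hc _ hk
        simp [mkU_val] at h1
        exact ⟨a, b, by rw [h1]⟩
      · rintro _ ⟨a, b, rfl⟩ g hg
        obtain ⟨h1, h2⟩ := h g hg
        obtain ⟨h1', h2'⟩ := h _ (H.inv_mem hg)
        have e1 : ∀ i j, (g⁻¹).1 i 0 * g.1 0 j + (g⁻¹).1 i 1 * g.1 1 j + (g⁻¹).1 i 2 * g.1 2 j =
            (1 : Matrix (Fin 3) (Fin 3) E) i j := by
          intro i j
          rw [← mul_ent, inv_mul_cancel, one_ent]
        refine ⟨(g⁻¹).1 0 0 * (a * g.1 1 1 + b * g.1 2 1), (g⁻¹).1 0 0 * (a * g.1 1 2 + b * g.1 2 2), 0, ?_⟩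
        apply ext3
        intro i j
        have e2 := e1 i j
        rw [mul_ent, mul_ent, mul_ent, mul_ent]
        simp only [mkU_val]
        have hi : i = 0 ∨ i = 1 ∨ i = 2 := by fin_cases i <;> simp
        have hj : j = 0 ∨ j = 1 ∨ j = 2 := by fin_cases j <;> simp
        rcases hi with rfl | rfl | rfl <;> rcases hj with rfl | rfl | rfl <;> simp [h1, h2, h1', h2'] at e2 ⊢ <;>
          first
            | exact e2
            | linear_combination e2
  · -- the line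
    by_cases hc : ∃ k ∈ coreIn H (Uh E), k.1 0 1 ≠ 0
    · right; right
      apply core_of_tri hU
      intro g hg
      refine ⟨?_, (h g hg).1, (h g hg).2⟩
      obtain ⟨k, hk, hk01⟩ := hc
      obtain ⟨a, b, c, e⟩ := hk g hg
      obtain ⟨a', b', c', rfl⟩ := coreIn_le H (Uh E) hk
      have h1 : mkU a' b' c' * g = g * mkU a b c := by rw [← e]; group
      have h2 := congrArg (fun x : SpecialLinearGroup (Fin 3) E => x.1 0 0) h1
      simp only [mul_ent, mkU_val] at h2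
      simp [(h g hg).1] at h2
      simp [mkU_val] at hk01
      exact h2.resolve_left hk01
    · right; left
      push Not at hc
      apply le_antisymm
      · intro k hk
        obtain ⟨a, b, c, rfl⟩ := coreIn_le H (Uh E) hk
        have h1 := hc _ hk
        simp [mkU_val] at h1
        exact ⟨b, c, by rw [h1]⟩
      · rintro _ ⟨b, c, rfl⟩ g hg
        obtain ⟨h1, h2⟩ := h g hg
        obtain ⟨h1', h2'⟩ := h _ (H.inv_mem hg)
        have e1 : ∀ i j, (g⁻¹).1 i 0 * g.1 0 j + (g⁻¹).1 i 1 * g.1 1 j + (g⁻¹).1 i 2 * g.1 2 j =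
            (1 : Matrix (Fin 3) (Fin 3) E) i j := by
          intro i j
          rw [← mul_ent, inv_mul_cancel, one_ent]
        refine ⟨0, ((g⁻¹).1 0 0 * b + (g⁻¹).1 0 1 * c) * g.1 2 2, ((g⁻¹).1 1 0 * b + (g⁻¹).1 1 1 * c) * g.1 2 2, ?_⟩
        apply ext3
        intro i j
        have e2 := e1 i j
        rw [mul_ent, mul_ent, mul_ent, mul_ent]
        simp only [mkU_val]
        have hi : i = 0 ∨ i = 1 ∨ i = 2 := by fin_cases i <;> simp
        have hj : j = 0 ∨ j = 1 ∨ j = 2 := by fin_cases j <;> simp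
        rcases hi with rfl | rfl | rfl <;> rcases hj with rfl | rfl | rfl <;> simp [h1, h2, h1', h2'] at e2 ⊢ <;>
          first
            | exact e2
            | linear_combination e2

end Cfsg.Agent.H682.EP
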